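import Cfsg.Agent.Lib.SubfieldMax.SympTools

/-!
The semilinear group of a quadratic extension field is maximal in the four-dimensional symplectic group of
characteristic two. The extension is given by a matrix `j` with `j² = j + δ`, self-adjoint for the form and
with `f(j v, v) = 0`.
-/

set_option autoImplicit false
set_option linter.unusedSectionVars false

namespace Cfsg.Agent.Lib.SympFourEven

open Matrix
open Cfsg.Agent.Lib Cfsg.Agent.Lib.SubfieldMax

variable {F : Type*} [Field F] [Finite F] [CharP F 2]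

local notation "Vs" => (Fin 2 ⊕ Fin 2 → F)
local notation "GLs" => GL (Fin 2 ⊕ Fin 2) F
local notation "Ms" => Matrix (Fin 2 ⊕ Fin 2) (Fin 2 ⊕ Fin 2) F
local notation "φ" => ph (m := 2) (1 : F)

/-- Elements commuting with `j` up to the nontrivial automorphism of the extension. -/
def Semi (j : Matrix (Fin 2 ⊕ Fin 2) (Fin 2 ⊕ Fin 2) F) (g : GL (Fin 2 ⊕ Fin 2) F) : Prop :=
  ∃ ε : F, (ε = 0 ∨ ε = 1) ∧ ∀ x : Fin 2 ⊕ Fin 2 → F,
    (g : Ms) *ᵥ (j *ᵥ x) = ε • ((g : Ms) *ᵥ x) + j *ᵥ ((g : Ms) *ᵥ x)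

variable (j : Matrix (Fin 2 ⊕ Fin 2) (Fin 2 ⊕ Fin 2) F) (δ : F)

/-- The root elements of the extension with centre the line of `v`. -/
noncomputable def R (v : Fin 2 ⊕ Fin 2 → F) (B C : F) : GL (Fin 2 ⊕ Fin 2) F :=
  Tz 1 v (δ * B + C) * Tz 1 (j *ᵥ v) B * Ez 1 v (j *ᵥ v) C

variable (hjj : ∀ x : Fin 2 ⊕ Fin 2 → F, j *ᵥ (j *ᵥ x) = j *ᵥ x + δ • x)
  (hjf : ∀ x y : Fin 2 ⊕ Fin 2 → F, ph (m := 2) (1 : F) (j *ᵥ x) y = ph (1 : F) x (j *ᵥ y))
  (hja : ∀ v : Fin 2 ⊕ Fin 2 → F, ph (m := 2) (1 : F) (j *ᵥ v) v = 0)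
  (hδ : ∀ s : F, s * s + s ≠ δ)

include hjj hδ in
theorem indep_j {v : Vs} (hv : v ≠ 0) {a b : F} (h : a • v + b • (j *ᵥ v) = 0) : a = 0 ∧ b = 0 := by
  have hb : b = 0 := by
    by_contra hb
    obtain ⟨s, hs⟩ : ∃ s, j *ᵥ v = s • v := ⟨-a / b, by
      rw [div_eq_inv_mul, mul_smul, neg_smul, ← eq_neg_of_add_eq_zero_right h, inv_smul_smul₀ hb]⟩
    have h1 := hjj v
    rw [hs, mulVec_smul, hs, smul_smul, ← add_smul] at h1
    have h3 : s * s = s + δ := smul_left_injective F hv h1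
    exact hδ s (by linear_combination h3 + CharTwo.add_self_eq_zero s)
  subst hb
  rw [zero_smul, add_zero] at h
  exact ⟨(smul_eq_zero.mp h).resolve_right hv, rfl⟩

include hja in
theorem ph_vj (v : Vs) : φ v (j *ᵥ v) = 0 := by rw [ph_comm, hja, neg_zero]

include hjj hjf hja in
theorem R_mulVec (v : Vs) (B C : F) (x : Vs) :
    (R j δ v B C : Ms) *ᵥ x = x + ((δ * B + C) * φ x v + C * φ x (j *ᵥ v)) • v
      + (B * φ x (j *ᵥ v) + C * φ x v) • (j *ᵥ v) := by
  simp only [R, Units.val_mul, ← mulVec_mulVec, Ez_mulVec (ph_vj j hja v), Tz_mulVec, ph_add_left, ph_smul_left,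
    ph_self, hja, ph_vj j hja v, mul_zero, add_zero]
  module

theorem R_mem (v : Vs) (B C : F) : R j δ v B C ∈ Cfsg.spGL 2 F :=
  mul_mem (mul_mem (Tz_mem _ _) (Tz_mem _ _)) (Ez_mem _ _ _)

include hjj hjf hja in
theorem R_semi (v : Vs) (B C : F) : Semi j (R j δ v B C) := by
  refine ⟨0, Or.inl rfl, fun x => ?_⟩
  rw [R_mulVec j δ hjj hjf hja, R_mulVec j δ hjj hjf hja, zero_smul, zero_add, mulVec_add, mulVec_add, mulVec_smul,
    mulVec_smul, hjj, hjf x v, hjf x (j *ᵥ v), hjj, ph_add_right, ph_smul_right]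
  match_scalars <;> (rw [← sub_eq_zero]; ring_nf <;> simp [CharTwo.ofNat_eq_mod])

theorem exists_both {u v : Vs} (hu : u ≠ 0) (hv : v ≠ 0) : ∃ w, φ u w ≠ 0 ∧ φ v w ≠ 0 := by
  obtain ⟨a, ha⟩ := SympMax.exists_form_ne hu
  obtain ⟨b, hb⟩ := SympMax.exists_form_ne hv
  have ha' : φ u a ≠ 0 := by rwa [ph, one_mul]
  have hb' : φ v b ≠ 0 := by rwa [ph, one_mul]
  by_cases h1 : φ v a = 0
  · by_cases h2 : φ u b = 0
    · exact ⟨a + b, by rwa [ph_add_right, h2, add_zero], by rwa [ph_add_right, h1, zero_add]⟩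
    · exact ⟨b, h2, hb'⟩
  · exact ⟨a, ha', h1⟩

variable {M : Subgroup (GL (Fin 2 ⊕ Fin 2) F)}

include hjj hjf hja hδ in
theorem exists_step {u v : Vs} (hR : ∀ z B C, R j δ z B C ∈ M) (h : φ u v ≠ 0) :
    ∃ g ∈ M, (g : Ms) *ᵥ u = v := by
  set α := φ u v with hα
  set β := φ u (j *ᵥ v) with hβ
  set D := δ * (α * α) + α * β + β * β with hD
  have hD0 : D ≠ 0 := fun e => hδ (β / α) (by
    field_simp
    rw [hD] at e
    linear_combination e + (CharTwo.two_eq_zero (R := F)) * (-(α * α * δ)))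
  refine ⟨_, hR (u + v) (α / D) (β / D), ?_⟩
  rw [R_mulVec j δ hjj hjf hja, mulVec_add, ph_add_right, ph_add_right, ph_self, ph_vj j hja, zero_add, zero_add,
    ← hα, ← hβ]
  have e1 : (δ * (α / D) + β / D) * α + β / D * β = 1 := by
    field_simp
    rw [hD]; ring
  have e2 : α / D * β + β / D * α = 0 := by
    field_simp
    linear_combination (CharTwo.two_eq_zero (R := F)) * (α * β)
  rw [e1, e2, one_smul, zero_smul, add_zero, ← add_assoc]
  funext i
  simp only [Pi.add_apply]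
  linear_combination (CharTwo.two_eq_zero (R := F)) * u i

include hjj hjf hja hδ in
theorem exists_move {u v : Vs} (hR : ∀ z B C, R j δ z B C ∈ M) (hu : u ≠ 0) (hv : v ≠ 0) :
    ∃ g ∈ M, (g : Ms) *ᵥ u = v := by
  obtain ⟨w, hw1, hw2⟩ := exists_both hu hv
  obtain ⟨g, hg, hgu⟩ := exists_step j δ hjj hjf hja hδ hR hw1
  obtain ⟨g', hg', hgw⟩ := exists_step j δ hjj hjf hja hδ hR (u := w) (v := v)
    (by rwa [ph_comm, neg_ne_zero])
  exact ⟨g' * g, M.mul_mem hg' hg, by rw [Units.val_mul, ← mulVec_mulVec, hgu, hgw]⟩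

include hjj hjf hja hδ in
theorem indep_four {u w : Vs} (hu : u ≠ 0) (hw : ∀ a b : F, w ≠ a • u + b • (j *ᵥ u)) {a b c d : F}
    (h : a • u + b • (j *ᵥ u) + (c • w + d • (j *ᵥ w)) = 0) : a = 0 ∧ b = 0 ∧ c = 0 ∧ d = 0 := by
  have hcd : c = 0 ∧ d = 0 := by
    by_contra hcd
    set D := (c * c + c * d + δ * (d * d)) with hD
    have hD0 : D ≠ 0 := by
      intro e
      by_cases hd : d = 0
      · exact hcd ⟨mul_self_eq_zero.mp (by rw [hD, hd] at e; simpa using e), hd⟩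
      · refine hδ (c / d) ?_
        field_simp
        rw [hD] at e
        linear_combination e + (CharTwo.two_eq_zero (R := F)) * (-(d * d * δ))
    have h2 := congrArg (j *ᵥ ·) h
    simp only [mulVec_add, mulVec_smul, hjj, mulVec_zero] at h2
    refine hw (((c + d) * a + δ * b * d) / D) (((c + d) * b + d * (a + b)) / D) ?_
    have key : D • w = ((c + d) * a + δ * b * d) • u + ((c + d) * b + d * (a + b)) • (j *ᵥ u) := by
      have h3 : (c + d) • (a • u + b • (j *ᵥ u) + (c • w + d • (j *ᵥ w)))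
          + d • (a • (j *ᵥ u) + b • (j *ᵥ u + δ • u) + (c • (j *ᵥ w) + d • (j *ᵥ w + δ • w))) = 0 := by
        rw [h, h2, smul_zero, smul_zero, add_zero]
      rw [← sub_eq_zero, ← h3, hD]
      match_scalars <;> (rw [← sub_eq_zero]; ring_nf <;> simp [CharTwo.ofNat_eq_mod])
    rw [div_eq_inv_mul, div_eq_inv_mul, mul_smul, mul_smul, ← smul_add, ← key, inv_smul_smul₀ hD0]
  obtain ⟨rfl, rfl⟩ := hcd
  rw [zero_smul, zero_smul, add_zero, add_zero] at h
  obtain ⟨ha, hb⟩ := indep_j j δ hjj hδ hu h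
  exact ⟨ha, hb, rfl, rfl⟩

include hjj hjf hja hδ in
/-- An element mapping lines to lines is semilinear. -/
theorem semi_of_lines {g : GLs}
    (hl : ∀ w, ∃ a b : F, (g : Ms) *ᵥ (j *ᵥ w) = a • ((g : Ms) *ᵥ w) + b • (j *ᵥ ((g : Ms) *ᵥ w))) :
    Semi j g := by
  have hinj : ∀ {x y : Vs}, (g : Ms) *ᵥ x = (g : Ms) *ᵥ y → x = y := fun {x y} h0 => by
    have h1 := congrArg (((g⁻¹ : GLs) : Ms) *ᵥ ·) h0
    simpa [mulVec_mulVec] using h1
  have hg0 : ∀ {x : Vs}, x ≠ 0 → (g : Ms) *ᵥ x ≠ 0 := fun {x} hx h0 => hx (hinj (by rw [h0, mulVec_zero]))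
  choose al be hab using hl
  have hbe : ∀ u, u ≠ 0 → be u ≠ 0 := fun u hu h0 => by
    have h1 := hab u
    rw [h0, zero_smul, add_zero, ← mulVec_smul] at h1
    exact one_ne_zero (indep_j j δ hjj hδ hu (a := -al u) (b := 1) (by rw [hinj h1]; module)).2
  have hind : ∀ u w, u ≠ 0 → (∀ a b : F, w ≠ a • u + b • (j *ᵥ u)) → al u = al w ∧ be u = be w := by
    intro u w hu hw
    have hw' : ∀ a b : F, (g : Ms) *ᵥ w ≠ a • ((g : Ms) *ᵥ u) + b • (j *ᵥ ((g : Ms) *ᵥ u)) := by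
      intro a b e
      refine hw (a - b / be u * al u) (b / be u) (hinj ?_)
      rw [mulVec_add, mulVec_smul, mulVec_smul, hab u, e, smul_add, smul_smul, smul_smul,
        div_mul_cancel₀ _ (hbe u hu)]
      module
    have h1 := hab (u + w)
    rw [mulVec_add, mulVec_add, mulVec_add, mulVec_add, hab u, hab w] at h1
    obtain ⟨e1, e2, e3, e4⟩ := indep_four j δ hjj hjf hja hδ (hg0 hu) hw'
      (a := al u - al (u + w)) (b := be u - be (u + w)) (c := al w - al (u + w)) (d := be w - be (u + w))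
      (by rw [← sub_eq_zero] at h1; rw [← h1]; module)
    exact ⟨(sub_eq_zero.mp e1).trans (sub_eq_zero.mp e3).symm, (sub_eq_zero.mp e2).trans (sub_eq_zero.mp e4).symm⟩
  have houtside : ∀ u : Vs, u ≠ 0 → ∃ w, φ u w ≠ 0 ∧ ∀ a b : F, w ≠ a • u + b • (j *ᵥ u) := by
    intro u hu
    obtain ⟨w, hw, -⟩ := exists_both hu hu
    exact ⟨w, hw, fun a b e => hw (by
      rw [e, ph_add_right, ph_smul_right, ph_smul_right, ph_self, ph_vj j hja]; ring)⟩
  obtain ⟨e, he⟩ : ∃ e : Vs, e ≠ 0 := ⟨Pi.single (Sum.inl 0) 1, by simp⟩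
  have hall : ∀ x, (g : Ms) *ᵥ (j *ᵥ x) = al e • ((g : Ms) *ᵥ x) + be e • (j *ᵥ ((g : Ms) *ᵥ x)) := by
    intro x
    rcases eq_or_ne x 0 with rfl | hx
    · simp
    have : al e = al x ∧ be e = be x := by
      by_cases hxe : ∃ a b : F, x = a • e + b • (j *ᵥ e)
      · obtain ⟨a, b, hxe⟩ := hxe
        obtain ⟨w, hw, hwe⟩ := houtside e he
        obtain ⟨h1, h2⟩ := hind e w he hwe
        have hwx : ∀ c d : F, w ≠ c • x + d • (j *ᵥ x) := fun c d h3 => hwe (c * a + δ * d * b)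
          (c * b + d * a + d * b) (by rw [h3, hxe, mulVec_add, mulVec_smul, mulVec_smul, hjj]; module)
        obtain ⟨h3, h4⟩ := hind x w hx hwx
        exact ⟨h1.trans h3.symm, h2.trans h4.symm⟩
      · push Not at hxe
        exact hind e x he hxe
    rw [this.1, this.2]; exact hab x
  have h1 := hall (j *ᵥ e)
  rw [hjj, mulVec_add, mulVec_smul, hall e, mulVec_add, mulVec_smul, mulVec_smul, hjj] at h1
  obtain ⟨c1, c2⟩ := indep_j j δ hjj hδ (hg0 he)
    (a := al e + δ - al e * al e - be e * be e * δ) (b := be e - 2 * (al e * be e) - be e * be e)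
    (by rw [← sub_eq_zero] at h1; rw [← h1]; module)
  have hb1 : be e = 1 := by
    have : be e * (1 - be e) = 0 := by
      linear_combination c2 + (CharTwo.two_eq_zero (R := F)) * (al e * be e)
    exact (sub_eq_zero.mp ((mul_eq_zero.mp this).resolve_left (hbe e he))).symm
  refine ⟨al e, ?_, fun x => by rw [hall x, hb1, one_smul]⟩
  have : al e * (1 - al e) = 0 := by rw [hb1] at c1; linear_combination c1
  rcases mul_eq_zero.mp this with h0 | h0
  · exact Or.inl h0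
  · exact Or.inr (sub_eq_zero.mp h0).symm

include hjj hjf hja hδ in
/-- Some transvection lies in a larger group. -/
theorem exists_transvection (hMS : M ≤ Cfsg.spGL 2 F) (hR : ∀ z B C, R j δ z B C ∈ M) {g : GLs} (hg : g ∈ M)
    {v : Vs} (hne : ∀ a b : F, (g : Ms) *ᵥ (j *ᵥ v) ≠ a • ((g : Ms) *ᵥ v) + b • (j *ᵥ ((g : Ms) *ᵥ v)))
    {y : F} (hy0 : y ≠ 0) (hy1 : y ≠ 1) : ∃ e c, e ≠ 0 ∧ c ≠ 0 ∧ Tz 1 e c ∈ M := by
  have hv : v ≠ 0 := fun h0 => hne 0 0 (by simp [h0])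
  set e := (g : Ms) *ᵥ v with he
  set a := j *ᵥ e with ha
  set b := (g : Ms) *ᵥ (j *ᵥ v) with hb
  have he0 : e ≠ 0 := fun h0 => hv (by
    have h1 := congrArg (((g⁻¹ : GLs) : Ms) *ᵥ ·) h0
    simpa [he, mulVec_mulVec] using h1)
  have hea : φ e a = 0 := ph_vj j hja e
  have heb : φ e b = 0 := by rw [he, hb, ph_apply_sp (hMS hg), ph_vj j hja]
  have hbe : φ b e = 0 := by rw [ph_comm, heb, neg_zero]
  have hae : φ a e = 0 := hja e
  have hμ : φ a b ≠ 0 := by
    intro h0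
    have hli : LinearIndependent F ![b, e, a] := by
      rw [show (![b, e, a] : Fin 3 → Vs) = Fin.cons b ![e, a] from rfl, linearIndependent_finCons]
      refine ⟨LinearIndependent.pair_iff.mpr fun s t h => indep_j j δ hjj hδ he0 h, fun h => ?_⟩
      rw [Matrix.range_cons, Matrix.range_cons, Matrix.range_empty, Set.union_empty, Set.singleton_union,
        Submodule.mem_span_pair] at h
      obtain ⟨s, t, h⟩ := h
      exact hne s t h.symm
    have hgd := Forms.sympBilin_goodForm (F := F) (m := 2)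
    have hle : Submodule.span F (Set.range ![b, e, a])
        ≤ Forms.perp (Forms.sympBilin 2 F) (Submodule.span F (Set.range ![b, e, a])) := by
      rw [Submodule.span_le]
      rintro _ ⟨i, rfl⟩
      rw [SetLike.mem_coe, Forms.mem_perp_span]
      rintro _ ⟨k, rfl⟩
      have hfφ : ∀ x y : Vs, Forms.sympBilin 2 F x y = φ x y := fun x y => by
        rw [Forms.sympBilin_apply, ph, one_mul]
      rw [hfφ]
      have hba : φ b a = 0 := by rw [ph_comm, h0, neg_zero]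
      fin_cases i <;> fin_cases k <;> simp [hea, heb, hbe, hae, hba, h0, ph_self]
    have h1 := Submodule.finrank_mono hle
    have h2 := hgd.finrank_add_finrank_perp (Submodule.span F (Set.range ![b, e, a]))
    rw [finrank_span_eq_card hli, Fintype.card_fin] at h1 h2
    rw [Module.finrank_fintype_fun_eq_card] at h2
    simp at h2
    omega
  set μ := φ a b with hμdef
  have hR0 : ∀ z C, R j δ z 0 C = Tz 1 z C * Ez 1 z (j *ᵥ z) C := fun z C => by
    rw [R, mul_zero, zero_add, Tz_zero, mul_one]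
  have hR1 : ∀ z, R j δ z 1 0 = Tz 1 z δ * Tz 1 (j *ᵥ z) 1 := fun z => by
    have h0 : Ez 1 z (j *ᵥ z) (0 : F) = 1 := by simp [Ez, Tz_zero]
    rw [R, mul_one, add_zero, h0, mul_one]
  obtain ⟨C, hC⟩ : ∃ C, C = y / μ := ⟨_, rfl⟩
  have hCμ : C * μ = y := by rw [hC, div_mul_cancel₀ _ hμ]
  have hPa : Tz 1 e C * Ez 1 e a C ∈ M := hR0 e C ▸ hR e 0 C
  have hPb : Tz 1 e (C * μ) * Ez 1 e b (C * μ) ∈ M := by
    have h1 := M.mul_mem (M.mul_mem hg (hR0 v (C * μ) ▸ hR v 0 (C * μ))) (M.inv_mem hg)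
    rwa [← conj_mul, conj_Tz (hMS hg), conj_Ez (hMS hg), ← he, ← hb] at h1
  have hS : Tz 1 e δ * Tz 1 b 1 ∈ M := by
    have h1 := M.mul_mem (M.mul_mem hg (hR1 v ▸ hR v 1 0)) (M.inv_mem hg)
    rwa [← conj_mul, conj_Tz (hMS hg), conj_Tz (hMS hg), ← he, ← hb] at h1
  have eSe : ((Tz 1 e δ * Tz 1 b 1 : GLs) : Ms) *ᵥ e = e := by
    simp [← mulVec_mulVec, Tz_mulVec, heb, ph_self]
  have eSa : ((Tz 1 e δ * Tz 1 b 1 : GLs) : Ms) *ᵥ a = a + μ • b := by
    simp [← mulVec_mulVec, Tz_mulVec, ph_add_left, ph_smul_left, hbe, hae, ← hμdef]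
  have h1 := M.mul_mem (M.mul_mem hS hPa) (M.inv_mem hS)
  rw [← conj_mul, conj_Tz (hMS hS), conj_Ez (hMS hS), eSe, eSa] at h1
  have h2 := M.mul_mem (M.mul_mem h1 hPa) hPb
  have hab' : φ e (a + μ • b) = 0 := by rw [ph_add_right, ph_smul_right, hea, heb, mul_zero, add_zero]
  have key : Tz 1 e C * Ez 1 e (a + μ • b) C * (Tz 1 e C * Ez 1 e a C) * (Tz 1 e (C * μ) * Ez 1 e b (C * μ))
      = Tz 1 e (y + y * y) := by
    refine glExt fun x => ?_
    have hba : φ b a = μ := by rw [ph_comm, ← hμdef, CharTwo.neg_eq]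
    simp only [Units.val_mul, ← mulVec_mulVec, Ez_mulVec hab', Ez_mulVec hea, Ez_mulVec heb, Tz_mulVec,
      ph_add_left, ph_add_right, ph_smul_left, ph_smul_right, ph_self, hea, heb, hae, hbe, hba, ← hμdef, ← hCμ,
      mul_zero, zero_mul, add_zero, zero_add]
    match_scalars <;> (rw [← sub_eq_zero]; ring_nf <;> simp [CharTwo.ofNat_eq_mod])
  rw [key] at h2
  refine ⟨e, y + y * y, he0, fun h0 => ?_, h2⟩
  have : y * (1 + y) = 0 := by linear_combination h0
  rcases mul_eq_zero.mp this with h | h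
  · exact hy0 h
  · exact hy1 (by linear_combination h - (CharTwo.two_eq_zero (R := F)))

include hjj hjf hja hδ in
/-- The semilinear group is maximal. -/
theorem isMaximalIn_semilinear {N : Subgroup (GL (Fin 2 ⊕ Fin 2) F)} (hN : ∀ g, g ∈ N ↔ Semi j g)
    (hy : ∃ y : F, y ≠ 0 ∧ y ≠ 1) :
    Cfsg.Geo.IsMaximalIn (Cfsg.spGL 2 F) (N ⊓ Cfsg.spGL 2 F) := by
  have hRN : ∀ z B C, R j δ z B C ∈ N ⊓ Cfsg.spGL 2 F :=
    fun z B C => ⟨(hN _).mpr (R_semi j δ hjj hjf hja z B C), R_mem j δ z B C⟩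
  refine ⟨lt_of_le_of_ne inf_le_right fun heq => ?_, fun M hNM hMS => ?_⟩
  · obtain ⟨v, hv⟩ : ∃ v : Vs, v ≠ 0 := ⟨Pi.single (Sum.inl 0) 1, by simp⟩
    obtain ⟨x, hx, -⟩ := exists_both hv hv
    have hxv : φ x v ≠ 0 := by rwa [ph_comm, neg_ne_zero]
    obtain ⟨ε, hε, h⟩ := (hN _).mp (heq.ge (Tz_mem (ζ := (1 : F)) v 1)).1
    have h1 := h x
    rw [Tz_mulVec, Tz_mulVec, mulVec_add, mulVec_smul, one_mul, one_mul, hjf x v] at h1
    rcases hε with rfl | rfl
    · exact hxv (neg_eq_zero.mp (indep_j j δ hjj hδ hv (a := φ x (j *ᵥ v)) (b := -φ x v)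
        (by rw [← sub_eq_zero] at h1; rw [← h1]; module)).2)
    · have h2 : x = (φ x (j *ᵥ v) - φ x v) • v + (-φ x v) • (j *ᵥ v) := by
        rw [← sub_eq_zero] at h1
        rw [← sub_eq_zero, ← neg_eq_zero, ← h1]
        module
      refine hxv ?_
      have h3 := congrArg (fun z => φ z v) h2
      simp only [ph_add_left, ph_smul_left, ph_self, hja] at h3
      rw [h3]; ring
  by_cases hle : M ≤ N
  · exact Or.inl (le_antisymm (le_inf hle hMS) hNM)
  right
  obtain ⟨g, hgM, hgN⟩ := SetLike.not_le_iff_exists.mp hle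
  have hR : ∀ z B C, R j δ z B C ∈ M := fun z B C => hNM (hRN z B C)
  obtain ⟨v, hne⟩ : ∃ v, ∀ a b : F,
      (g : Ms) *ᵥ (j *ᵥ v) ≠ a • ((g : Ms) *ᵥ v) + b • (j *ᵥ ((g : Ms) *ᵥ v)) := by
    by_contra hl
    push Not at hl
    exact hgN ((hN g).mpr (semi_of_lines j δ hjj hjf hja hδ hl))
  obtain ⟨y, hy0, hy1⟩ := hy
  obtain ⟨e, c, he, hc, hT⟩ := exists_transvection j δ hjj hjf hja hδ hMS hR hgM hne hy0 hy1
  refine SympMax.eq_spGL hMS fun w => root_of_Tz one_ne_zero fun d => ?_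
  rcases eq_or_ne w 0 with rfl | hw
  · rw [← zero_smul F (0 : Vs), Tz_smul, mul_zero, zero_mul, Tz_zero]
    exact M.one_mem
  rcases eq_or_ne d 0 with rfl | hd
  · rw [Tz_zero]; exact M.one_mem
  obtain ⟨l, hl⟩ := FiniteField.isSquare_of_char_two (ringChar.eq F 2) (d / c)
  have hl0 : l ≠ 0 := fun h0 => (div_ne_zero hd hc) (by rw [hl, h0, mul_zero])
  obtain ⟨h, hh, hhe⟩ := exists_move j δ hjj hjf hja hδ hR he (smul_ne_zero hl0 hw)
  have h1 := M.mul_mem (M.mul_mem hh hT) (M.inv_mem hh)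
  rw [conj_Tz (hMS hh), hhe, Tz_smul, ← hl, div_mul_cancel₀ _ hc] at h1
  exact h1

/-- A quadratic field of matrices is generated by a root of an irreducible `X² + X + δ`. -/
theorem exists_artin_gen {ι : Type} [Fintype ι] [DecidableEq ι] [Nonempty ι] (K : Subalgebra F (Matrix ι ι F))
    (hK : Cfsg.Geo.IsFieldSubalgebra 2 K) :
    ∃ (j : Matrix ι ι F) (δ : F), j ∈ K ∧ j * j = j + δ • 1 ∧ (∀ s : F, s * s + s ≠ δ) ∧
      ∀ k ∈ K, ∃ a b : F, k = a • 1 + b • j := by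
  classical
  obtain ⟨k, hk, hkn⟩ : ∃ k ∈ K, ∀ c : F, k ≠ c • (1 : Matrix ι ι F) := by
    by_contra hno
    push Not at hno
    have hle : Subalgebra.toSubmodule K ≤ Submodule.span F {(1 : Matrix ι ι F)} := fun x hx => by
      obtain ⟨c, rfl⟩ := hno x hx
      exact Submodule.smul_mem _ c (Submodule.mem_span_singleton_self _)
    have h1 := Submodule.finrank_mono hle
    rw [Subalgebra.finrank_toSubmodule, hK.finrank_eq, finrank_span_singleton one_ne_zero] at h1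
    omega
  have hspan : ∀ x ∈ K, ∃ a b : F, x = a • (1 : Matrix ι ι F) + b • k := by
    intro x hx
    have hli : LinearIndependent F ![(1 : Matrix ι ι F), k] := by
      rw [LinearIndependent.pair_iff' one_ne_zero]
      exact fun c e => hkn c e.symm
    have hle : Submodule.span F (Set.range ![(1 : Matrix ι ι F), k]) ≤ Subalgebra.toSubmodule K := by
      rw [Submodule.span_le]
      rintro _ ⟨i, rfl⟩
      fin_cases i
      · exact K.one_mem
      · exact hk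
    have he := Submodule.eq_of_le_of_finrank_eq hle (by
      rw [finrank_span_eq_card hli, Subalgebra.finrank_toSubmodule, hK.finrank_eq, Fintype.card_fin])
    have hx' : x ∈ Submodule.span F (Set.range ![(1 : Matrix ι ι F), k]) := he ▸ hx
    rw [Matrix.range_cons, Matrix.range_cons, Matrix.range_empty, Set.union_empty, Set.singleton_union,
      Submodule.mem_span_pair] at hx'
    obtain ⟨a, b, e⟩ := hx'
    exact ⟨a, b, e.symm⟩
  have hne : ∀ t : F, k - t • (1 : Matrix ι ι F) ≠ 0 := fun t e => hkn t (sub_eq_zero.mp e)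
  have hzero : ∀ s t : F, (k - s • 1) * (k - t • 1) ≠ (0 : Matrix ι ι F) := by
    intro s t e
    obtain ⟨y, -, hy⟩ := hK.inv _ (K.sub_mem hk (K.smul_mem K.one_mem s)) (hne s)
    have h3 := congrArg (y * ·) e
    simp only [← mul_assoc, mul_eq_one_comm.mp hy, one_mul, mul_zero] at h3
    exact hne t h3
  obtain ⟨p, q, hpq⟩ := hspan (k * k) (K.mul_mem hk hk)
  have hq : q ≠ 0 := by
    intro h0
    obtain ⟨s, hs⟩ := FiniteField.isSquare_of_char_two (ringChar.eq F 2) p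
    refine hzero s s ?_
    rw [sub_mul, mul_sub, mul_sub, hpq, h0, hs, smul_mul_assoc, smul_mul_assoc, mul_smul_comm, one_mul, one_mul,
      mul_one]
    match_scalars <;> (rw [← sub_eq_zero]; ring_nf <;> simp [CharTwo.ofNat_eq_mod])
  refine ⟨q⁻¹ • k, p / (q * q), K.smul_mem hk _, ?_, fun s hs => ?_, fun x hx => ?_⟩
  · rw [smul_mul_smul_comm, hpq]
    match_scalars <;> field_simp
  · refine hzero (q * s) (q * s + q) ?_
    rw [sub_mul, mul_sub, mul_sub, hpq, smul_mul_assoc, smul_mul_assoc, mul_smul_comm, one_mul, one_mul, mul_one]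
    rw [eq_div_iff (mul_ne_zero hq hq)] at hs
    rw [← hs]
    match_scalars <;> (rw [← sub_eq_zero]; ring_nf <;> simp [CharTwo.ofNat_eq_mod])
  · obtain ⟨a, b, rfl⟩ := hspan x hx
    exact ⟨a, b * q, by rw [smul_smul, mul_assoc, mul_inv_cancel₀ hq, mul_one]⟩

/-- The normaliser of a self-adjoint quadratic field is maximal. -/
theorem isMaximalIn_field (hy : ∃ y : F, y ≠ 0 ∧ y ≠ 1)
    (K : Subalgebra F (Matrix (Fin 2 ⊕ Fin 2) (Fin 2 ⊕ Fin 2) F)) (hK : Cfsg.Geo.IsFieldSubalgebra 2 K)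
    (hsa : Cfsg.Geo.IsSelfAdjointFor (Cfsg.sympForm 2 F) K)
    (halt : ∀ k ∈ K, ∀ v : Fin 2 ⊕ Fin 2 → F, Cfsg.sympForm 2 F (k *ᵥ v) v = 0) :
    Cfsg.Geo.IsMaximalIn (Cfsg.spGL 2 F) (Cfsg.Geo.subalgebraNormalizer K ⊓ Cfsg.spGL 2 F) := by
  obtain ⟨j, δ, hjK, hjj, hδ, hspan⟩ := exists_artin_gen K hK
  have hjjv : ∀ x, j *ᵥ (j *ᵥ x) = j *ᵥ x + δ • x := fun x => by
    rw [mulVec_mulVec, hjj, add_mulVec, smul_mulVec, one_mulVec]
  have hjf : ∀ x y, φ (j *ᵥ x) y = φ x (j *ᵥ y) := fun x y => by rw [ph, ph, hsa j hjK x y]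
  have hja : ∀ v, φ (j *ᵥ v) v = 0 := fun v => by rw [ph, halt j hjK v, mul_zero]
  refine isMaximalIn_semilinear j δ hjjv hjf hja hδ (fun g => ?_) hy
  constructor
  · intro hg
    refine semi_of_lines j δ hjjv hjf hja hδ fun w => ?_
    obtain ⟨s, t, hst⟩ := hspan _ ((hg j).mp hjK)
    refine ⟨s, t, ?_⟩
    have h1 := congrArg (fun A : Ms => A *ᵥ ((g : Ms) *ᵥ w)) hst
    simp only [add_mulVec, smul_mulVec, one_mulVec] at h1
    rw [← h1, mulVec_mulVec, mulVec_mulVec, mul_assoc, ← Units.val_mul, inv_mul_cancel, Units.val_one,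
      mul_one]
  · intro hs k
    obtain ⟨ε, -, hg⟩ := hs
    have hgj : (g : Ms) * j = (ε • 1 + j) * (g : Ms) := Matrix.ext_iff_mulVec.mpr fun x => by
      rw [← mulVec_mulVec, hg, ← mulVec_mulVec, add_mulVec, smul_mulVec, one_mulVec]
    have hgj' : ((g⁻¹ : GLs) : Ms) * j * (g : Ms) = j - ε • 1 := by
      have h1 : j * (g : Ms) = (g : Ms) * (j - ε • 1) := by
        rw [mul_sub, hgj, add_mul, mul_smul_comm, smul_mul_assoc, mul_one, one_mul]; abel
      rw [mul_assoc, h1, ← mul_assoc, ← Units.val_mul, inv_mul_cancel, Units.val_one, one_mul]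
    constructor
    · intro hk
      obtain ⟨s, t, rfl⟩ := hspan k hk
      rw [mul_add, add_mul, mul_smul_comm, mul_smul_comm, smul_mul_assoc, smul_mul_assoc, mul_one, hgj,
        mul_assoc, ← Units.val_mul, mul_inv_cancel, Units.val_one, mul_one]
      exact K.add_mem (K.smul_mem K.one_mem _) (K.smul_mem (K.add_mem (K.smul_mem K.one_mem _) hjK) _)
    · intro hk
      have e : ((g⁻¹ : GLs) : Ms) * ((g : Ms) * k * ((g⁻¹ : GLs) : Ms)) * (g : Ms) = k := by
        simp [mul_assoc]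
      obtain ⟨s, t, hst⟩ := hspan _ hk
      rw [← e, hst, mul_add, add_mul, mul_smul_comm, mul_smul_comm, smul_mul_assoc, smul_mul_assoc, mul_one,
        ← Units.val_mul, inv_mul_cancel, Units.val_one, hgj']
      exact K.add_mem (K.smul_mem K.one_mem _) (K.smul_mem (K.sub_mem hjK (K.smul_mem K.one_mem _)) _)

end Cfsg.Agent.Lib.SympFourEven
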