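import Cfsg.Agent.Lib.SubfieldMax.SympSubfield

/-!
The subfield subgroup is maximal in the four-dimensional symplectic group of characteristic two.
-/

set_option autoImplicit false
set_option linter.unusedSectionVars false

namespace Cfsg.Agent.Lib.SympFourEven

open Matrix
open Cfsg.Agent.Lib Cfsg.Agent.Lib.SubfieldMax

variable {F : Type*} [Field F] [Finite F] [CharP F 2] {K : Subfield F} {ζ : F}
  {P : GL (Fin 2 ⊕ Fin 2) F} {M : Subgroup (GL (Fin 2 ⊕ Fin 2) F)}

local notation "Vs" => (Fin 2 ⊕ Fin 2 → F)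
local notation "Ks" => (Fin 2 ⊕ Fin 2 → K)
local notation "Ms" => Matrix (Fin 2 ⊕ Fin 2) (Fin 2 ⊕ Fin 2) F
local notation "act" g:max x:max => Matrix.mulVec (g : Matrix (Fin 2 ⊕ Fin 2) (Fin 2 ⊕ Fin 2) F) x

/-- A square in a finite subfield of characteristic two has its root there. -/
theorem mem_of_mul_self {x : F} (h : x * x ∈ K) : x ∈ K := by
  haveI : CharP K 2 := Subfield.charP K 2
  obtain ⟨y, hy⟩ := FiniteField.isSquare_of_char_two (ringChar.eq K 2) (⟨x * x, h⟩ : K)
  have hy' : x * x = (y : F) * y := congrArg (Subtype.val : K → F) hy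
  have : (x + y) * (x + y) = 0 := by linear_combination hy' + (CharTwo.two_eq_zero (R := F)) * (x * y + (y : F) * y)
  have e : x = y := by
    linear_combination mul_self_eq_zero.mp this - (CharTwo.two_eq_zero (R := F)) * (y : F)
  exact e ▸ y.2

variable (hζ : ζ ≠ 0)
  (hP : ∀ u v : Fin 2 ⊕ Fin 2 → K, ph ζ (ratVec K P u) (ratVec K P v) ∈ K)
  (hHM : Cfsg.Geo.subfieldSubgroup K P ⊓ Cfsg.spGL 2 F ≤ M) (hMS : M ≤ Cfsg.spGL 2 F)

/-- Scalars whose rational transvections lie in `M`. -/
def AllT (K : Subfield F) (ζ : F) (P : GL (Fin 2 ⊕ Fin 2) F) (M : Subgroup (GL (Fin 2 ⊕ Fin 2) F)) (c : F) : Prop :=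
  ∀ u : Fin 2 ⊕ Fin 2 → K, Tz ζ (ratVec K P u) c ∈ M

include hζ hP hHM hMS in
theorem allT_of_one {c : F} {u₀ : Ks} (hu₀ : u₀ ≠ 0) (h : Tz ζ (ratVec K P u₀) c ∈ M) : AllT K ζ P M c := by
  intro u
  rcases eq_or_ne u 0 with rfl | hu
  · rw [ratVec_zero, ← zero_smul F (0 : Vs), Tz_smul, mul_zero, zero_mul, Tz_zero]
    exact M.one_mem
  obtain ⟨g, hg, hgi⟩ := exists_rational_map hP hζ (v := ![u₀]) (w := ![u])
    (linearIndependent_unique_iff.mpr (by simpa using hu₀)) (linearIndependent_unique_iff.mpr (by simpa using hu))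
    (fun i j => by fin_cases i; fin_cases j; simp [ratForm_self])
  have h1 := M.mul_mem (M.mul_mem (hHM hg) h) (M.inv_mem (hHM hg))
  rwa [conj_Tz hg.2, show act g (ratVec K P u₀) = ratVec K P u by simpa using hgi 0] at h1

/-- Independent orthogonal pairs carrying the mixed element with scalar `c`. -/
def Mixed (hP : ∀ u v : Fin 2 ⊕ Fin 2 → K, ph ζ (ratVec K P u) (ratVec K P v) ∈ K)
    (M : Subgroup (GL (Fin 2 ⊕ Fin 2) F)) (c : F) : Prop :=
  ∀ a b : Fin 2 ⊕ Fin 2 → K, LinearIndependent K ![a, b] → ratForm hP a b = 0 →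
    Tz ζ (ratVec K P a) c * Ez ζ (ratVec K P a) (ratVec K P b) c ∈ M

include hζ hHM hMS in
theorem mixed_of_pair {c : F} {a₀ b₀ : Ks} (hli : LinearIndependent K ![a₀, b₀]) (h0 : ratForm hP a₀ b₀ = 0)
    (h : Tz ζ (ratVec K P a₀) c * Ez ζ (ratVec K P a₀) (ratVec K P b₀) c ∈ M) : Mixed hP M c := by
  intro a b hab hab0
  obtain ⟨g, hg, hgi⟩ := exists_rational_map hP hζ hli hab (fun i j => by
    fin_cases i <;> fin_cases j <;> simp [ratForm_self, h0, hab0, ratForm_comm hP b₀ a₀, ratForm_comm hP b a])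
  have h1 := M.mul_mem (M.mul_mem (hHM hg) h) (M.inv_mem (hHM hg))
  rw [← conj_mul, conj_Tz hg.2, conj_Ez hg.2] at h1
  rwa [show act g (ratVec K P a₀) = ratVec K P a by simpa using hgi 0,
    show act g (ratVec K P b₀) = ratVec K P b by simpa using hgi 1] at h1

include hζ in
/-- A hyperbolic pair in the perpendicular space of a nonzero rational vector. -/
theorem exists_frame : ∃ a b b' : Ks, LinearIndependent K ![a, b] ∧ LinearIndependent K ![a, b'] ∧
    LinearIndependent K ![b', a] ∧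
    ratForm hP a b = 0 ∧ ratForm hP a b' = 0 ∧ ratForm hP b b' = 1 := by
  obtain ⟨a, ha⟩ : ∃ a : Ks, a ≠ 0 := ⟨Pi.single (Sum.inl 0) 1, by simp⟩
  obtain ⟨b, hb0, hb⟩ := exists_perp_notMem hP hζ ![a] (Submodule.span K {a})
    (by rw [finrank_span_singleton ha]; norm_num)
  have hab : ratForm hP a b = 0 := hb0 0
  have hli := linearIndependent_two ha hb
  obtain ⟨b', hb'⟩ := exists_ratForm_eq hP hζ hli ![0, 1]
  have hab' : ratForm hP a b' = 0 := hb' 0
  have hbb' : ratForm hP b b' = 1 := hb' 1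
  have hli2 : LinearIndependent K ![a, b'] := linearIndependent_two ha fun h => by
    obtain ⟨k, rfl⟩ := Submodule.mem_span_singleton.mp h
    rw [map_smul, ratForm_comm hP b a, hab] at hbb'
    simp at hbb'
  exact ⟨a, b, b', hli, hli2, LinearIndependent.pair_symm_iff.mp hli2, hab, hab', hbb'⟩

include hζ hP hHM hMS in
/-- From a mixed element, a transvection with irrational scalar. -/
theorem exists_allT_of_mixed {c : F} (hc : c ∉ K) (hmix : Mixed hP M c) : ∃ d, d ∉ K ∧ AllT K ζ P M d := by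
  obtain ⟨a, b, b', hli, hli', hli'', hab, hab', hbb'⟩ := exists_frame hζ hP
  have ha : a ≠ 0 := fun e => one_ne_zero ((LinearIndependent.pair_iff.mp hli) 1 0 (by simp [e])).1
  set A := ratVec K P a
  set B := ratVec K P b
  set B' := ratVec K P b'
  have hAB : ph ζ A B = 0 := ph_eq_zero_of_ratForm hP hab
  have hAB' : ph ζ A B' = 0 := ph_eq_zero_of_ratForm hP hab'
  have hBB' : ph ζ B B' = 1 := ph_eq_one_of_ratForm hP hbb'
  have hBA : ph ζ B A = 0 := by rw [ph_comm, hAB, neg_zero]
  have hB'A : ph ζ B' A = 0 := by rw [ph_comm, hAB', neg_zero]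
  have hB'B : ph ζ B' B = 1 := by rw [ph_comm, hBB', CharTwo.neg_eq]
  have hW : Tz ζ A c * Ez ζ A B c ∈ M := hmix a b hli hab
  have hW' : Tz ζ A c * Ez ζ A B' c ∈ M := hmix a b' hli' hab'
  have hh : Tz ζ B' (1 : F) ∈ M := by simpa using centre_ratVec hP hHM b' 1
  have e1 : act (Tz ζ B' (1 : F)) A = A := by simp [Tz_mulVec, hAB']
  have e2 : act (Tz ζ B' (1 : F)) B = B + B' := by simp [Tz_mulVec, hBB']
  have h1 := M.mul_mem (M.mul_mem hh hW) (M.inv_mem hh)
  rw [← conj_mul, conj_Tz (Tz_mem _ _), conj_Ez (Tz_mem _ _), e1, e2] at h1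
  have h2 := M.mul_mem (M.mul_mem h1 hW) hW'
  have hABB : ph ζ A (B + B') = 0 := by rw [ph_add_right, hAB, hAB', add_zero]
  have key : Tz ζ A c * Ez ζ A (B + B') c * (Tz ζ A c * Ez ζ A B c) * (Tz ζ A c * Ez ζ A B' c)
      = Tz ζ A (c + c * c) := by
    refine glExt fun x => ?_
    simp only [Units.val_mul, ← mulVec_mulVec, Ez_mulVec hABB, Ez_mulVec hAB, Ez_mulVec hAB', Tz_mulVec,
      ph_add_left, ph_add_right, ph_smul_left, ph_self, hAB, hAB', hBA, hB'A, hBB', hB'B,
      mul_zero, mul_one, add_zero, zero_add]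
    match_scalars <;> (rw [← sub_eq_zero]; ring_nf <;> simp [CharTwo.ofNat_eq_mod])
  rw [key] at h2
  by_cases he : c + c * c ∈ K
  swap
  · exact ⟨_, he, allT_of_one hζ hP hHM hMS ha h2⟩
  -- here `c` is a root of a quadratic over the subfield
  obtain ⟨e, hedef⟩ : ∃ e, e = c + c * c := ⟨_, rfl⟩
  rw [← hedef] at he
  have he0 : e ≠ 0 := by
    intro h0
    have : c * (1 + c) = 0 := by linear_combination hedef.symm.trans h0
    rcases mul_eq_zero.mp this with h | h
    · exact hc (h ▸ K.zero_mem)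
    · exact hc (by rw [show c = 1 by linear_combination h - (CharTwo.two_eq_zero (R := F))]; exact K.one_mem)
  have hW'' : Tz ζ B' c * Ez ζ B' A c ∈ M := hmix b' a hli'' (by rw [ratForm_comm, hab', neg_zero])
  have f1 : ((Tz ζ B' c * Ez ζ B' A c : GL (Fin 2 ⊕ Fin 2) F) : Ms) *ᵥ A = A := by
    simp [← mulVec_mulVec, Ez_mulVec hB'A, Tz_mulVec, hAB', ph_self]
  have f2 : ((Tz ζ B' c * Ez ζ B' A c : GL (Fin 2 ⊕ Fin 2) F) : Ms) *ᵥ B = B + c • B' + c • A := by
    simp [← mulVec_mulVec, Ez_mulVec hB'A, Tz_mulVec, hBB', hBA, ph_add_left, ph_smul_left, hAB']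
    abel
  have h3 := M.mul_mem (M.mul_mem hW'' hW) (M.inv_mem hW'')
  rw [← conj_mul, conj_Tz (hMS hW''), conj_Ez (hMS hW''), f1, f2] at h3
  have hEe : Ez ζ A B' e ∈ M := by
    have := good_coe hζ hP hHM hMS (⟨e, he⟩ : K) a b' hli' hab'
    exact this
  have h4 := M.mul_mem (M.mul_mem (M.mul_mem h3 hW) hEe) hW'
  have hABB' : ph ζ A (B + c • B' + c • A) = 0 := by
    rw [ph_add_right, ph_add_right, ph_smul_right, ph_smul_right, hAB, hAB', ph_self]; ring
  have hcc : c * c = c + e := by rw [hedef]; linear_combination -(CharTwo.two_eq_zero (R := F)) * c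
  have key2 : Tz ζ A c * Ez ζ A (B + c • B' + c • A) c * (Tz ζ A c * Ez ζ A B c) * Ez ζ A B' e
      * (Tz ζ A c * Ez ζ A B' c) = Tz ζ A (c * c * c + c) := by
    rw [hedef]
    refine glExt fun x => ?_
    simp only [Units.val_mul, ← mulVec_mulVec, Ez_mulVec hABB', Ez_mulVec hAB, Ez_mulVec hAB', Tz_mulVec,
      ph_add_left, ph_add_right, ph_smul_left, ph_smul_right, ph_self, hAB, hAB', hBA, hB'A, hBB', hB'B,
      mul_zero, mul_one, add_zero, zero_add]
    match_scalars <;> (rw [← sub_eq_zero]; ring_nf <;> simp [CharTwo.ofNat_eq_mod])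
  rw [key2] at h4
  refine ⟨_, fun hd => hc ?_, allT_of_one hζ hP hHM hMS ha h4⟩
  have h5 : c * c * c + c = c * e + e := by
    linear_combination (c + 1) * hcc + (CharTwo.two_eq_zero (R := F)) * c
  rw [h5] at hd
  have h6 : c = (c * e + e - e) / e := by field_simp; ring
  rw [h6]
  exact K.div_mem (K.sub_mem hd he) he

include hζ hP hHM hMS in
/-- The scalars fill the whole field. -/
theorem allT_all (r : ℕ) (hr : r.Prime) (hcard : Nat.card F = Nat.card K ^ r) {d₀ : F} (hd₀ : d₀ ∉ K)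
    (hA : AllT K ζ P M d₀) (x : F) : AllT K ζ P M x := by
  haveI : Module.Finite K F := Module.Finite.of_finite
  have hdim : Module.finrank K F = r := by
    have h := Module.natCard_eq_pow_finrank (K := K) (V := F)
    rw [hcard] at h
    exact (Nat.pow_right_injective Finite.one_lt_card h).symm
  have hsimple := Subalgebra.isSimpleOrder_of_finrank_prime K F (hdim ▸ hr)
  have htop : ∀ S : Subalgebra K F, (∃ c ∈ S, c ∉ K) → S = ⊤ := by
    rintro S ⟨c, hc, hcK⟩
    refine (hsimple.eq_bot_or_eq_top S).resolve_left fun e => ?_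
    obtain ⟨a, ha⟩ := Algebra.mem_bot.mp (e ▸ hc)
    exact hcK (ha ▸ a.2)
  have hadd : ∀ {c d : F}, AllT K ζ P M c → AllT K ζ P M d → AllT K ζ P M (c + d) := fun hc hd u => by
    rw [Tz_add]; exact M.mul_mem (hc u) (hd u)
  have hK : ∀ k : K, AllT K ζ P M (k : F) := fun k u => centre_ratVec hP hHM u k
  have hscale : ∀ (k : K) {c : F}, AllT K ζ P M c → AllT K ζ P M ((k : F) * c) := by
    intro k c hc u
    haveI : CharP K 2 := Subfield.charP K 2
    obtain ⟨l, hl⟩ := FiniteField.isSquare_of_char_two (ringChar.eq K 2) k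
    have h := hc (l • u)
    rwa [ratVec_smul, Tz_smul, ← K.coe_mul, ← hl] at h
  obtain ⟨a, b, b', hli, hli', -, hab, hab', hbb'⟩ := exists_frame hζ hP
  have ha : a ≠ 0 := fun e => one_ne_zero ((LinearIndependent.pair_iff.mp hli) 1 0 (by simp [e])).1
  -- the commutator of a root element with a transvection
  have hrel : ∀ {c d : F}, AllT K ζ P M c → AllT K ζ P M d → ∀ p q : Ks, LinearIndependent K ![a, p] →
      LinearIndependent K ![a, q] → ratForm hP a p = 0 → ratForm hP a q = 0 → ratForm hP p q = 1 →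
      Tz ζ (ratVec K P a) (c * c * d) * Ez ζ (ratVec K P a) (ratVec K P q) (c * d) ∈ M := by
    intro c d hc hd p q hlp _ hap haq hpq
    have hAp : ph ζ (ratVec K P a) (ratVec K P p) = 0 := ph_eq_zero_of_ratForm hP hap
    have hAq : ph ζ (ratVec K P a) (ratVec K P q) = 0 := ph_eq_zero_of_ratForm hP haq
    have hpA : ph ζ (ratVec K P p) (ratVec K P a) = 0 := by rw [ph_comm, hAp, neg_zero]
    have hqA : ph ζ (ratVec K P q) (ratVec K P a) = 0 := by rw [ph_comm, hAq, neg_zero]
    have hpq' : ph ζ (ratVec K P p) (ratVec K P q) = 1 := ph_eq_one_of_ratForm hP hpq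
    have hqp : ph ζ (ratVec K P q) (ratVec K P p) = 1 := by rw [ph_comm, hpq', CharTwo.neg_eq]
    have hE : Ez ζ (ratVec K P a) (ratVec K P p) c ∈ M := by
      have hsum : Tz ζ (ratVec K P a + ratVec K P p) c ∈ M := by rw [← ratVec_add]; exact hc _
      rw [Ez, CharTwo.neg_eq]
      exact M.mul_mem (M.mul_mem hsum (hc a)) (hc p)
    have e1 : act (Tz ζ (ratVec K P q) d) (ratVec K P a) = ratVec K P a := by simp [Tz_mulVec, hAq]
    have e2 : act (Tz ζ (ratVec K P q) d) (ratVec K P p) = ratVec K P p + d • ratVec K P q := by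
      simp [Tz_mulVec, hpq']
    have h1 := M.mul_mem (M.mul_mem (hd q) hE) (M.inv_mem (hd q))
    rw [conj_Ez (Tz_mem _ _), e1, e2] at h1
    have h2 := M.mul_mem h1 hE
    have hab2 : ph ζ (ratVec K P a) (ratVec K P p + d • ratVec K P q) = 0 := by
      rw [ph_add_right, ph_smul_right, hAp, hAq, mul_zero, add_zero]
    have key : Ez ζ (ratVec K P a) (ratVec K P p + d • ratVec K P q) c * Ez ζ (ratVec K P a) (ratVec K P p) c
        = Tz ζ (ratVec K P a) (c * c * d) * Ez ζ (ratVec K P a) (ratVec K P q) (c * d) := by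
      refine glExt fun x => ?_
      simp only [Units.val_mul, ← mulVec_mulVec, Ez_mulVec hab2, Ez_mulVec hAp, Ez_mulVec hAq, Tz_mulVec,
        ph_add_left, ph_add_right, ph_smul_left, ph_smul_right, ph_self, hAp, hAq, hpA, hqA, hpq', hqp,
        mul_zero, mul_one, add_zero, zero_add]
      match_scalars <;> (rw [← sub_eq_zero]; ring_nf <;> simp [CharTwo.ofNat_eq_mod])
    rw [key] at h2
    exact h2
  have hbb : ratForm hP b' b = 1 := by
    apply Subtype.ext
    rw [coe_ratForm, ph_comm, ph_eq_one_of_ratForm hP hbb', CharTwo.neg_eq]; rfl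
  have hsq : ∀ {c : F}, AllT K ζ P M c → AllT K ζ P M (c * c) := by
    intro c hc
    have h1 := hrel hc (hK 1) b b' hli hli' hab hab' hbb'
    rw [show ((1 : K) : F) = 1 from rfl, mul_one, mul_one] at h1
    have hE : Ez ζ (ratVec K P a) (ratVec K P b') c ∈ M :=
      good_of_Tz hζ hP hHM hMS ha (hc a) a b' hli' hab'
    exact allT_of_one hζ hP hHM hMS ha ((M.mul_mem_cancel_right hE).mp h1)
  let A : Set F := {c | AllT K ζ P M c}
  have hsqrt : ∀ {c : F}, AllT K ζ P M c → ∃ s, AllT K ζ P M s ∧ s * s = c := by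
    intro c hc
    let L : A → A := fun s => ⟨(s : F) * s, hsq s.2⟩
    have hinj : Function.Injective L := fun s t h => by
      have h1 : (s : F) * s = (t : F) * t := congrArg Subtype.val h
      have h2 : ((s : F) + t) * (s + t) = 0 := by
        linear_combination h1 + (CharTwo.two_eq_zero (R := F)) * ((s : F) * t + (t : F) * t)
      apply Subtype.ext
      linear_combination mul_self_eq_zero.mp h2 - (CharTwo.two_eq_zero (R := F)) * (t : F)
    obtain ⟨⟨s, hs⟩, hst⟩ := (Finite.injective_iff_surjective.mp hinj) ⟨c, hc⟩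
    exact ⟨s, hs, congrArg Subtype.val hst⟩
  have hmulA : ∀ {c d : F}, AllT K ζ P M c → AllT K ζ P M d → AllT K ζ P M (c * (d + d * d)) := by
    intro c d hc hd
    obtain ⟨s, hs, rfl⟩ := hsqrt hc
    have g1 := hrel hs hd b' b hli' hli hab' hab hbb
    have g2 := hrel hs hd b b' hli hli' hab hab' hbb'
    set A₀ := ratVec K P a
    set B := ratVec K P b
    set B' := ratVec K P b'
    have hAB : ph ζ A₀ B = 0 := ph_eq_zero_of_ratForm hP hab
    have hAB' : ph ζ A₀ B' = 0 := ph_eq_zero_of_ratForm hP hab'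
    have hBA : ph ζ B A₀ = 0 := by rw [ph_comm, hAB, neg_zero]
    have hB'A : ph ζ B' A₀ = 0 := by rw [ph_comm, hAB', neg_zero]
    have hB'B : ph ζ B' B = 1 := ph_eq_one_of_ratForm hP hbb
    have hBB' : ph ζ B B' = 1 := ph_eq_one_of_ratForm hP hbb'
    have hh : Tz ζ B (1 : F) ∈ M := by simpa using centre_ratVec hP hHM b 1
    have e1 : act (Tz ζ B (1 : F)) A₀ = A₀ := by simp [Tz_mulVec, hAB]
    have e2 : act (Tz ζ B (1 : F)) B' = B' + B := by simp [Tz_mulVec, hB'B]
    have h1 := M.mul_mem (M.mul_mem hh g2) (M.inv_mem hh)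
    rw [← conj_mul, conj_Tz (Tz_mem _ _), conj_Ez (Tz_mem _ _), e1, e2] at h1
    have h2 := M.mul_mem (M.mul_mem h1 g2) g1
    have hABB : ph ζ A₀ (B' + B) = 0 := by rw [ph_add_right, hAB, hAB', add_zero]
    have key : Tz ζ A₀ (s * s * d) * Ez ζ A₀ (B' + B) (s * d) * (Tz ζ A₀ (s * s * d) * Ez ζ A₀ B' (s * d))
        * (Tz ζ A₀ (s * s * d) * Ez ζ A₀ B (s * d)) = Tz ζ A₀ (s * s * (d + d * d)) := by
      refine glExt fun x => ?_
      simp only [Units.val_mul, ← mulVec_mulVec, Ez_mulVec hABB, Ez_mulVec hAB, Ez_mulVec hAB', Tz_mulVec,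
        ph_add_left, ph_add_right, ph_smul_left, ph_self, hAB, hAB', hBA, hB'A, hBB', hB'B,
        mul_zero, mul_one, add_zero, zero_add]
      match_scalars <;> (rw [← sub_eq_zero]; ring_nf <;> simp [CharTwo.ofNat_eq_mod])
    rw [key] at h2
    exact allT_of_one hζ hP hHM hMS ha h2
  by_cases hall : ∀ d, AllT K ζ P M d → d + d * d ∈ K
  · -- a quadratic extension
    obtain ⟨e, he⟩ : ∃ e : K, (e : F) = d₀ + d₀ * d₀ := ⟨⟨_, hall d₀ hA⟩, rfl⟩
    have hd2 : d₀ * d₀ = d₀ + (e : F) := by rw [he]; linear_combination -(CharTwo.two_eq_zero (R := F)) * d₀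
    let S : Subalgebra K F :=
      { carrier := {x | ∃ u v : K, x = (u : F) + (v : F) * d₀}
        mul_mem' := by
          rintro x y ⟨u, v, rfl⟩ ⟨u', v', rfl⟩
          exact ⟨u * u' + v * v' * e, u * v' + v * u' + v * v', by
            push_cast; linear_combination (v : F) * (v' : F) * hd2⟩
        one_mem' := ⟨1, 0, by simp⟩
        add_mem' := by
          rintro x y ⟨u, v, rfl⟩ ⟨u', v', rfl⟩
          exact ⟨u + u', v + v', by push_cast; ring⟩
        zero_mem' := ⟨0, 0, by simp⟩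
        algebraMap_mem' := fun k => ⟨k, 0, by
          show (k : F) = _
          simp⟩ }
    obtain ⟨u, v, rfl⟩ : x ∈ S := (htop S ⟨d₀, ⟨0, 1, by simp⟩, hd₀⟩) ▸ Algebra.mem_top
    exact hadd (hK u) (hscale v hA)
  · push Not at hall
    obtain ⟨d, hd, hdK⟩ := hall
    let S : Subalgebra K F :=
      { carrier := {y | ∀ c, AllT K ζ P M c → AllT K ζ P M (y * c)}
        mul_mem' := fun {y z} hy hz c hc => by rw [mul_assoc]; exact hy _ (hz c hc)
        one_mem' := fun c hc => by rwa [one_mul]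
        add_mem' := fun {y z} hy hz c hc => by rw [add_mul]; exact hadd (hy c hc) (hz c hc)
        zero_mem' := fun c _ => by rw [zero_mul]; simpa using hK 0
        algebraMap_mem' := fun k c hc => hscale k hc }
    have hdS : d + d * d ∈ S := fun c hc => by rw [mul_comm]; exact hmulA hc hd
    have hx : x ∈ S := (htop S ⟨_, hdS, hdK⟩) ▸ Algebra.mem_top
    simpa using hx 1 (hK 1)

include hζ hP hHM hMS in
theorem eq_spGL_of_allT (hall : ∀ x, AllT K ζ P M x) : M = Cfsg.spGL 2 F := by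
  classical
  have hT : ∀ b : Ks, ∀ c, Tz ζ (ratVec K P b) c ∈ M := fun b c => hall c b
  have hgood : ∀ c, Good hP M c := fun c a b _ _ => by
    rw [Ez, ← ratVec_add]
    exact M.mul_mem (M.mul_mem (hT _ _) (hT _ _)) (hT _ _)
  refine SympMax.eq_spGL hMS fun v => ?_
  suffices ∀ (s : Finset (Fin 2 ⊕ Fin 2)) (c : Fin 2 ⊕ Fin 2 → F),
      ∑ i ∈ s, c i • ratVec K P (Pi.single i 1) ∈ SympMax.root M by
    rw [eq_sum_ratVec (K := K) (P := P) v]
    exact this _ _
  intro s
  induction s using Finset.induction_on with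
  | empty =>
    intro c
    rw [Finset.sum_empty, ← ratVec_zero (K := K) (P := P)]
    exact root_of_Tz hζ (hT 0)
  | insert j s hj ih =>
    intro c
    rw [Finset.sum_insert hj]
    set v' := ∑ i ∈ s, c i • ratVec K P (Pi.single i 1)
    have hv' : v' ∈ SympMax.root M := ih c
    set e : Ks := Pi.single j 1 with he
    have hej : e ≠ 0 := by simp [he]
    by_cases h1 : ph ζ v' (ratVec K P e) = 0
    · by_cases h2 : ∃ t : Ks, ratForm hP e t = 0 ∧ ph ζ v' (ratVec K P t) ≠ 0
      · obtain ⟨t, ht, htv⟩ := h2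
        have hli : LinearIndependent K ![e, t] := linearIndependent_two hej fun h => by
          obtain ⟨k, rfl⟩ := Submodule.mem_span_singleton.mp h
          exact htv (by rw [ratVec_smul, ph_smul_right, h1, mul_zero])
        have h3 := SympMax.root_map hMS (hgood (c j / ph ζ v' (ratVec K P t)) _ _ hli ht) hv'
        rw [Ez_mulVec (ph_eq_zero_of_ratForm hP ht), h1, mul_zero, zero_smul, add_zero,
          div_mul_cancel₀ _ htv, add_comm] at h3
        exact h3
      · push Not at h2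
        obtain ⟨u₀, hu₀⟩ := exists_ratForm_eq hP hζ (u := ![e])
          (linearIndependent_unique_iff.mpr (by simpa using hej)) ![1]
        have hu₀' : ratForm hP e u₀ = 1 := hu₀ 0
        have hw : v' - (- ph ζ (ratVec K P u₀) v') • ratVec K P e = 0 :=
          eq_zero_of_ph_ratVec (K := K) (P := P) hζ fun u => by
            have h3 := h2 (u - ratForm hP e u • u₀) (by
              rw [map_sub, map_smul, hu₀', smul_eq_mul, mul_one, sub_self])
            rw [ratVec_sub, ratVec_smul, ph_sub_right, ph_smul_right, coe_ratForm] at h3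
            rw [ph_sub_right, ph_smul_right, ph_comm (ratVec K P u) (ratVec K P e),
              ph_comm (ratVec K P u) v', ph_comm (ratVec K P u₀) v']
            linear_combination -h3
        rw [sub_eq_zero] at hw
        rw [hw, ← add_smul]
        exact SympMax.root_smul (root_of_Tz hζ (hT e)) _
    · have h3 := SympMax.root_map hMS (hT e (c j / ph ζ v' (ratVec K P e))) hv'
      rw [Tz_mulVec, div_mul_cancel₀ _ h1, add_comm] at h3
      exact h3

include hζ hP in
/-- The subfield subgroup is maximal. -/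
theorem isMaximalIn_subfield_four (r : ℕ) (hr : r.Prime) (hcard : Nat.card F = Nat.card K ^ r) :
    Cfsg.Geo.IsMaximalIn (Cfsg.spGL 2 F) (Cfsg.Geo.subfieldSubgroup K P ⊓ Cfsg.spGL 2 F) := by
  refine ⟨lt_of_le_of_ne inf_le_right fun heq => ?_, fun M hHM hMS => ?_⟩
  · obtain ⟨c, hc⟩ : ∃ c, c ∉ K := by
      by_contra hall
      push Not at hall
      have e : Nat.card K = Nat.card F := Nat.card_congr (Equiv.subtypeUnivEquiv hall)
      rw [e] at hcard
      have h2 := hcard.symm.trans (pow_one _).symm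
      exact hr.one_lt.ne' (Nat.pow_right_injective Finite.one_lt_card h2)
    obtain ⟨a, b, b', -, -, -, hab, hab', hbb'⟩ := exists_frame hζ hP
    have hT : Tz ζ (ratVec K P b') c ∈ Cfsg.Geo.subfieldSubgroup K P := (heq.ge (Tz_mem _ _)).1
    obtain ⟨l, -, hl⟩ := exists_scale_of_mem (K := K) (P := P) hT
    have hB : ph ζ (ratVec K P b) (ratVec K P b') = 1 := ph_eq_one_of_ratForm hP hbb'
    obtain ⟨v₁, hv₁⟩ := hl b'
    rw [Tz_mulVec, ph_self, mul_zero, zero_smul, add_zero] at hv₁
    obtain ⟨v₂, hv₂⟩ := hl b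
    rw [Tz_mulVec, hB, mul_one] at hv₂
    have h1 := congrArg (fun y => ph ζ y (ratVec K P b)) hv₁
    simp only [ph_smul_left] at h1
    rw [ph_comm, hB] at h1
    have hlK : l ∈ K := by
      have h0 : l = -(ph ζ (ratVec K P v₁) (ratVec K P b))⁻¹ := by
        rw [← inv_neg]
        exact eq_inv_of_mul_eq_one_left (by rw [mul_neg, ← h1, neg_neg])
      rw [h0]
      exact K.neg_mem (K.inv_mem (hP v₁ b))
    have h2 := congrArg (fun y => ph ζ y (ratVec K P b)) hv₂
    simp only [ph_add_left, ph_smul_left, ph_self, zero_add] at h2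
    rw [ph_comm (ratVec K P b') (ratVec K P b), hB] at h2
    apply hc
    rw [show c = -(l * ph ζ (ratVec K P v₂) (ratVec K P b)) by linear_combination -h2]
    exact K.neg_mem (K.mul_mem hlK (hP v₂ b))
  by_cases hM : M ≤ Cfsg.Geo.subfieldSubgroup K P
  · exact Or.inl (le_antisymm (le_inf hM hMS) hHM)
  right
  obtain ⟨g, hgM, hg⟩ := SetLike.not_le_iff_exists.mp hM
  obtain ⟨u, hu⟩ : ∃ u : Ks, ∀ v : Ks, act g (ratVec K P u) ≠ ratVec K P v := by
    by_contra hall
    push Not at hall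
    exact hg (mem_subfield_of_maps one_ne_zero fun u => by simpa using hall u)
  set w := act g (ratVec K P u)
  have hw : Centre K ζ M w := centre_map hMS hgM (centre_ratVec hP hHM u)
  obtain ⟨a, ha⟩ : ∃ a : Ks, ph ζ (ratVec K P a) w ∉ K := by
    by_contra hall
    push Not at hall
    let L : Ks →ₗ[K] K :=
      { toFun := fun x => ⟨ph ζ (ratVec K P x) w, hall x⟩
        map_add' := fun x y => Subtype.ext (by
          show ph ζ (ratVec K P (x + y)) w = _
          rw [ratVec_add, ph_add_left]; rfl)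
        map_smul' := fun k x => Subtype.ext (by
          show ph ζ (ratVec K P (k • x)) w = _
          rw [ratVec_smul, ph_smul_left]; rfl) }
    obtain ⟨b₀, hb₀⟩ := (ratForm_good hP hζ).exists_vec L
    refine hu b₀ (sub_eq_zero.mp (eq_zero_of_ph_ratVec (K := K) (P := P) hζ fun x => ?_))
    have h1 := congrArg (Subtype.val : K → F) (hb₀ x)
    rw [coe_ratForm, ph_comm, CharTwo.neg_eq] at h1
    have h2 : ((L x : K) : F) = ph ζ (ratVec K P x) w := rfl
    rw [ph_sub_right, sub_eq_zero, ← h2, h1]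
  have ha0 : a ≠ 0 := fun e => ha (by rw [e, ratVec_zero, ph_zero_left]; exact K.zero_mem)
  obtain ⟨b, hb0, hb⟩ := exists_perp_notMem hP hζ ![a] (Submodule.span K {a})
    (by rw [finrank_span_singleton ha0]; norm_num)
  have hab : ratForm hP a b = 0 := hb0 0
  have hli := linearIndependent_two ha0 hb
  set A := ratVec K P a
  set B := ratVec K P b
  set α := ph ζ A w with hα
  set β := ph ζ B w with hβ
  have hAB : ph ζ A B = 0 := ph_eq_zero_of_ratForm hP hab
  have hBA : ph ζ B A = 0 := by rw [ph_comm, hAB, neg_zero]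
  have hwA : ph ζ w A = α := by rw [ph_comm, ← hα, CharTwo.neg_eq]
  have hwB : ph ζ w B = β := by rw [ph_comm, ← hβ, CharTwo.neg_eq]
  have hh : Ez ζ A B (1 : F) ∈ M := Ez_rat_mem hP hHM a b
  have e0 : act (Ez ζ A B (1 : F)) w = w + α • B + β • A := by rw [Ez_mulVec hAB, hwA, hwB, one_mul, one_mul]
  have hw1 : Tz ζ w (1 : F) ∈ M := by simpa using hw 1
  have h1 := M.mul_mem (M.mul_mem hh hw1) (M.inv_mem hh)
  rw [conj_Tz (Ez_mem _ _ _), e0] at h1
  have hX := M.mul_mem h1 hw1
  have eX : ((Tz ζ (w + α • B + β • A) (1 : F) * Tz ζ w (1 : F) : GL (Fin 2 ⊕ Fin 2) F) : Ms) *ᵥ A = (1 + α * β) • A + (α * α) • B := by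
    simp only [Units.val_mul, ← mulVec_mulVec, Tz_mulVec, ph_add_left, ph_add_right, ph_smul_left, ph_smul_right,
      ph_self, hAB, hwA, hwB, ← hα, one_mul, mul_zero, add_zero]
    match_scalars <;> (rw [← sub_eq_zero]; ring_nf <;> simp [CharTwo.ofNat_eq_mod])
  have hz : Centre K ζ M ((1 + α * β) • A + (α * α) • B) := eX ▸ centre_map hMS hX (centre_ratVec hP hHM a)
  set p := 1 + α * β
  set q := α * α with hq
  have hqK : q ∉ K := fun h => ha (mem_of_mul_self h)
  have hqq : q * q ∉ K := fun h => hqK (mem_of_mul_self h)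
  have hli2 : LinearIndependent K ![a, b + a] := linearIndependent_two ha0 fun h => hb (by
    have := Submodule.sub_mem _ h (Submodule.mem_span_singleton_self a)
    simpa using this)
  have hab2 : ratForm hP a (b + a) = 0 := by rw [map_add, hab, ratForm_self, add_zero]
  obtain ⟨s, hs, hsi⟩ := exists_rational_map hP hζ hli hli2 (fun i j => by
    fin_cases i <;> fin_cases j <;>
      simp [ratForm_self, hab, hab2, ratForm_comm hP b a, ratForm_comm hP (b + a) a])
  have hsA : act s A = A := by simpa using hsi 0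
  have hsB : act s B = B + A := by
    have h := hsi 1
    simp only [Matrix.cons_val_one, Matrix.cons_val_fin_one] at h
    rw [h, ratVec_add]
  have hz1 : Tz ζ (p • A + q • B) (1 : F) ∈ M := by simpa using hz 1
  have hz2 : Tz ζ (act s (p • A + q • B)) (1 : F) ∈ M := by simpa using centre_map hMS (hHM hs) hz 1
  rw [mulVec_add, mulVec_smul, mulVec_smul, hsA, hsB] at hz2
  have h3 := M.mul_mem hz2 hz1
  have key : Tz ζ (p • A + q • (B + A)) (1 : F) * Tz ζ (p • A + q • B) (1 : F)
      = Tz ζ A (q * q) * Ez ζ A B (q * q) := by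
    refine glExt fun x => ?_
    simp only [Units.val_mul, ← mulVec_mulVec, Ez_mulVec hAB, Tz_mulVec, ph_add_left, ph_add_right, ph_smul_left,
      ph_smul_right, ph_self, hAB, hBA, one_mul, mul_zero, add_zero, zero_add]
    match_scalars <;> (rw [← sub_eq_zero]; ring_nf <;> simp [CharTwo.ofNat_eq_mod])
  rw [key] at h3
  obtain ⟨d, hd, hdA⟩ := exists_allT_of_mixed hζ hP hHM hMS hqq (mixed_of_pair hζ hP hHM hMS hli hab h3)
  exact eq_spGL_of_allT hζ hP hHM hMS fun x => allT_all hζ hP hHM hMS r hr hcard hd hdA x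

end Cfsg.Agent.Lib.SympFourEven
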